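import Cfsg.Agent.Lib.Schur.PermMult
import Cfsg.Agent.Lib.O8Mult.CoverData

/-!
# The cover `2^2.O8+(2)` as a certified permutation group
-/

set_option autoImplicit false

namespace Cfsg.Agent.Lib.O8Mult

open Cfsg.Agent.Lib.Computation

/-- The cover. -/
noncomputable abbrev K : Subgroup (Equiv.Perm (Fin 736)) := (permRep 736 10 (by decide)).grp cov_chain

theorem cov_ok : (permRep 736 10 (by decide)).checkChain cov_chain = true :=
  (permRep 736 10 (by decide)).checkChain_of_checkClosure cov_check

theorem cov_order : (permRep 736 10 (by decide)).order cov_chain = 696729600 := by decide +kernel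

theorem card_K : Nat.card K = 696729600 :=
  ((permRep 736 10 (by decide)).card_grp cov_ok).trans cov_order

instance finite_K : Finite K := Nat.finite_of_card_ne_zero (by rw [card_K]; norm_num)

end Cfsg.Agent.Lib.O8Mult
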