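import Cfsg.Agent.Lib.OrthOmega.Simple
import Cfsg.Agent.Lib.OrthStd.Models
import Cfsg.Agent.Lib.LowIso.Small
import Cfsg.Agent.Lib.Forms.Bridge
import Cfsg.Agent.Lib.O8Mult.RootData
import Cfsg.Agent.Lib.O8Mult.ImageData

/-!
# `Ω⁺₈(2)` as permutations of the 256 vectors
-/

set_option autoImplicit false

namespace Cfsg.Agent.Lib.O8Mult

open Matrix Cfsg.Agent.Lib.Computation
open scoped commutatorElement

/-- Coordinates. -/
abbrev I : Type := Fin 4 ⊕ Fin 4

/-- Column vectors. -/
abbrev V : Type := I → ZMod 2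

/-- The form. -/
abbrev qf : V → ZMod 2 := Cfsg.quadFormPlus 4 (ZMod 2)

/-- The orthogonal group. -/
abbrev O8 := Cfsg.isometryGroup (ZMod 2) qf

/-- Its commutator subgroup. -/
abbrev Om : Subgroup O8 := Cfsg.Omega (ZMod 2) qf

/-- The binary position of a coordinate. -/
def posOf : I → ℕ
  | .inl i => i.val
  | .inr i => 4 + i.val

/-- The vector with a given index. -/
def vecOf (x : Fin 256) : V := fun c => if x.val.testBit (posOf c) then 1 else 0

theorem vecOf_injective : Function.Injective vecOf := by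
  intro x y h
  apply Fin.ext
  apply Nat.eq_of_testBit_eq
  intro i
  by_cases hi : i < 8
  · have hc : ∃ c, posOf c = i := by
      by_cases h4 : i < 4
      · exact ⟨.inl ⟨i, h4⟩, rfl⟩
      · exact ⟨.inr ⟨i - 4, by omega⟩, by simp only [posOf]; omega⟩
    obtain ⟨c, rfl⟩ := hc
    have h1 := congrFun h c
    simp only [vecOf] at h1
    cases hx : x.val.testBit (posOf c) <;> cases hy : y.val.testBit (posOf c) <;> simp_all
  · have h2 : 2 ^ 8 ≤ 2 ^ i := Nat.pow_le_pow_right (by norm_num) (not_lt.mp hi)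
    rw [Nat.testBit_lt_two_pow (by omega), Nat.testBit_lt_two_pow (by omega)]

/-- Indices and vectors. -/
noncomputable def vecEquiv : Fin 256 ≃ V :=
  Equiv.ofBijective vecOf ((Fintype.bijective_iff_injective_and_card vecOf).2
    ⟨vecOf_injective, by simp⟩)

/-- The matrix of an isometry. -/
def mat (A : O8) : Matrix I I (ZMod 2) := (A : GL I (ZMod 2)).val

theorem mat_mul (A B : O8) : mat (A * B) = mat A * mat B := rfl

theorem mat_one : mat 1 = 1 := rfl

/-- The permutation of the vectors. -/
def permV (A : O8) : Equiv.Perm V where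
  toFun v := mat A *ᵥ v
  invFun v := mat A⁻¹ *ᵥ v
  left_inv v := by
    show mat A⁻¹ *ᵥ (mat A *ᵥ v) = v
    rw [mulVec_mulVec, ← mat_mul, inv_mul_cancel, mat_one, one_mulVec]
  right_inv v := by
    show mat A *ᵥ (mat A⁻¹ *ᵥ v) = v
    rw [mulVec_mulVec, ← mat_mul, mul_inv_cancel, mat_one, one_mulVec]

/-- The action on indices. -/
noncomputable def phi : O8 →* Equiv.Perm (Fin 256) where
  toFun A := vecEquiv.symm.permCongr (permV A)
  map_one' := by
    refine Equiv.ext fun x => ?_
    simp [Equiv.permCongr_apply, permV, mat_one]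
  map_mul' A B := by
    refine Equiv.ext fun x => ?_
    simp [Equiv.permCongr_apply, permV, mat_mul, mulVec_mulVec]

theorem phi_injective : Function.Injective phi := by
  intro A B h
  refine Subtype.ext (Units.ext ?_)
  refine Matrix.ext_of_mulVec_single fun c => ?_
  have h1 := congrArg (fun σ : Equiv.Perm (Fin 256) => vecEquiv (σ (vecEquiv.symm (Pi.single c 1)))) h
  simpa [phi, Equiv.permCongr_apply, permV, mat] using h1

/-- A matrix from the bit patterns of its rows. -/
def matOf (rows : List ℕ) : Matrix I I (ZMod 2) :=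
  Matrix.of fun i j => if (rows.getD (posOf i) 0).testBit (posOf j) then 1 else 0

/-- The image of an index. -/
def img (c : ℕ) (x : Fin 256) : Fin 256 := Fin.ofNat 256 (getW 8 c x.val)

/-- An isometry of order two with its code. -/
def rootOk (t : List ℕ × ℕ) : Bool :=
  okPerm 256 8 t.2 && decide (∀ x : Fin 256, matOf t.1 *ᵥ vecOf x = vecOf (img t.2 x)) &&
    decide (∀ x : Fin 256, qf (vecOf (img t.2 x)) = qf (vecOf x)) &&
      decide (matOf t.1 * matOf t.1 = 1)

theorem roots_ok : roots.all rootOk = true := by decide +kernel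

theorem exists_root {t : List ℕ × ℕ} (ht : rootOk t = true) : ∃ A : O8, phi A = decodeP 256 8 t.2 := by
  simp only [rootOk, Bool.and_eq_true, decide_eq_true_eq] at ht
  obtain ⟨⟨⟨hok, hact⟩, hq⟩, hinv⟩ := ht
  have hiso : ∀ u v : V, qf (matOf t.1 *ᵥ u) = qf u := by
    intro u _
    obtain ⟨x, rfl⟩ := vecEquiv.surjective u
    show qf (matOf t.1 *ᵥ vecOf x) = qf (vecOf x)
    rw [hact x]
    exact hq x
  let A : O8 := ⟨⟨matOf t.1, matOf t.1, hinv, hinv⟩, hiso⟩
  refine ⟨A, Equiv.ext fun x => Fin.ext ?_⟩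
  rw [decodeP_apply hok]
  show ((vecEquiv.symm.permCongr (permV A)) x : ℕ) = _
  rw [Equiv.permCongr_apply, Equiv.symm_symm]
  have h1 : permV A (vecEquiv x) = vecEquiv (img t.2 x) := hact x
  rw [h1, Equiv.symm_apply_apply, img, Fin.val_ofNat, Nat.mod_eq_of_lt (okPerm_lt hok x.isLt)]

/-- The generators are commutators of root elements. -/
theorem comms_ok : ((List.range img_gens.length).all fun k =>
    let ab := comms.getD k (0, 0)
    let a := (roots.getD ab.1 ([], 0)).2
    let b := (roots.getD ab.2 ([], 0)).2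
    let r := img_gens.getD k 0
    Nat.blt ab.1 roots.length && Nat.blt ab.2 roots.length && okPerm 256 8 r &&
      Nat.beq (mulP 256 8 r (mulP 256 8 b a)) (mulP 256 8 a b)) = true := by decide +kernel

theorem gen_mem {r : ℕ} (hr : r ∈ img_gens) : decodeP 256 8 r ∈ Om.map phi := by
  obtain ⟨k, hk, rfl⟩ := List.getElem_of_mem hr
  have h := List.all_eq_true.1 comms_ok k (List.mem_range.2 hk)
  simp only [Bool.and_eq_true, Nat.blt_eq, Nat.beq_eq, List.getD_eq_getElem _ _ hk] at h
  obtain ⟨⟨⟨ha, hb⟩, hok⟩, heq⟩ := h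
  rw [List.getD_eq_getElem _ _ ha, List.getD_eq_getElem _ _ hb] at heq
  have ra := List.all_eq_true.1 roots_ok _ (List.getElem_mem ha)
  have rb := List.all_eq_true.1 roots_ok _ (List.getElem_mem hb)
  obtain ⟨A, hA⟩ := exists_root ra
  obtain ⟨B, hB⟩ := exists_root rb
  simp only [rootOk, Bool.and_eq_true] at ra rb
  refine ⟨⁅A, B⁆, Subgroup.commutator_mem_commutator (Subgroup.mem_top A) (Subgroup.mem_top B), ?_⟩
  have h2 := congrArg (decodeP 256 8) heq
  rw [decodeP_mulP hok (okPerm_mulP rb.1.1.1 ra.1.1.1), decodeP_mulP rb.1.1.1 ra.1.1.1,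
    decodeP_mulP ra.1.1.1 rb.1.1.1, ← hA, ← hB] at h2
  rw [map_commutatorElement, commutatorElement_def, mul_inv_eq_iff_eq_mul, mul_inv_eq_iff_eq_mul, ← h2,
    mul_assoc]

theorem card_O8 : Nat.card O8 = 348364800 := by
  rw [OrthStd.card_orth_plus (q := 2) (ZMod.card 2) 4 (by norm_num)]
  decide +kernel

theorem card_Om : Nat.card Om = 174182400 := by
  have h := LowIso.Small.index_mul_card_omega (Forms.qPlus (F := ZMod 2) 4)
    (OrthStd.quadFormPlus_eq 4)
  rw [Forms.index_commutator_two (Forms.qPlus_nondeg 4) (by decide)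
    (by rw [OrthOmega.finrank_fun]; simp)
    (Or.inr (by rw [OrthOmega.finrank_fun]; simp)), card_O8] at h
  have h' : 2 * Nat.card Om = 348364800 := h
  omega

theorem card_POm : Nat.card (Cfsg.POmega (ZMod 2) qf) = 174182400 := by
  have h := OrthOmega.card_pOmega_plus (F := ZMod 2) (q := 2) (ZMod.card 2) 4 (by norm_num)
  norm_num [Finset.prod_range_succ] at h
  exact h

theorem mk_bijective : Function.Bijective (QuotientGroup.mk' (Subgroup.center Om)) := by
  have : Finite Om := Nat.finite_of_card_ne_zero (by rw [card_Om]; norm_num)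
  exact (Nat.bijective_iff_surjective_and_card _).2
    ⟨QuotientGroup.mk'_surjective _, by rw [card_Om]; exact card_POm.symm⟩

theorem img_ok : (permRep 256 8 (by decide)).order img_chain = 174182400 := by decide +kernel

/-- The certified group of permutations is `Ω⁺₈(2)`. -/
theorem closure_img : Subgroup.closure (decodeP 256 8 '' {s | s ∈ img_gens}) = Om.map phi := by
  have : Finite Om := Nat.finite_of_card_ne_zero (by rw [card_Om]; norm_num)
  have hcard : Nat.card (Subgroup.closure (decodeP 256 8 '' {s | s ∈ img_gens})) = 174182400 :=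
    ((permRep 256 8 (by decide)).card_closure img_check).trans img_ok
  refine Subgroup.eq_of_le_of_card_ge ?_ ?_
  · rw [Subgroup.closure_le]
    rintro _ ⟨r, hr, rfl⟩
    exact gen_mem hr
  · rw [hcard, Subgroup.card_map_of_injective phi_injective, card_Om]

end Cfsg.Agent.Lib.O8Mult
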