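import Cfsg.Agent.Lib.Schur.Fusion
import Cfsg.Agent.Lib.O8Mult.Cover
import Cfsg.Agent.Lib.O8Mult.FiveData

/-!
# The parts at five and seven of the multiplier of the cover
-/

set_option autoImplicit false
set_option Elab.async false
set_option maxRecDepth 20000

namespace Cfsg.Agent.Lib.O8Mult

open Cfsg.Agent.Lib.Schur
open Cfsg.Agent.Lib.Computation (mulP permRep)
open Cfsg.Agent.Lib.Schur.PermMult (pone ppow pNotOne memC el el_has hasOne)

theorem five_ok : (memC (n := 736) (w := 10) (by decide) cov_chain fiveA &&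
    memC (n := 736) (w := 10) (by decide) cov_chain fiveB &&
    memC (n := 736) (w := 10) (by decide) cov_chain fiveN &&
    Nat.beq (ppow 736 10 fiveB 5) (pone 736 10) &&
    Nat.beq (mulP 736 10 fiveA fiveB) (mulP 736 10 fiveB fiveA) &&
    Nat.beq (mulP 736 10 fiveN fiveA) (mulP 736 10 fiveB fiveN) &&
    Nat.beq (mulP 736 10 fiveN fiveB) (mulP 736 10 fiveA fiveN)) = true := by
  decide +kernel

theorem five_gens_eq : five_gens = [fiveA, fiveB] := by decide +kernel

theorem five_order : (permRep 736 10 (by decide)).order five_chain = 25 := by decide +kernel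

theorem exists_five : ∃ P : Subgroup K, ¬ 5 ∣ P.index ∧ Fusion.KillsPart 5 P := by
  have hok := five_ok
  simp only [Bool.and_eq_true] at hok
  obtain ⟨⟨⟨⟨⟨⟨ha, hb⟩, hn⟩, hb5⟩, hab⟩, hna⟩, hnb⟩ := hok
  have ia := el_has cov_ok ha
  have ib := el_has cov_ok hb
  have i_n := el_has cov_ok hn
  refine ⟨Subgroup.closure {el cov_ok ha, el cov_ok hb}, fun hd => ?_,
    Fusion.killsPart_of_swap 5 _ (el cov_ok ha) (el cov_ok hb) (el cov_ok hn) (e := 5) (by decide) le_rfl
      ((ia.mul ib).eq (ib.mul ia) hab) ((ib.pow 5).eq hasOne hb5)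
      (mul_inv_eq_iff_eq_mul.2 ((i_n.mul ia).eq (ib.mul i_n) hna))
      (mul_inv_eq_iff_eq_mul.2 ((i_n.mul ib).eq (ia.mul i_n) hnb))⟩
  have h := Nat.mul_dvd_mul_left (Nat.card (Subgroup.closure {el cov_ok ha, el cov_ok hb})) hd
  rw [Subgroup.card_mul_index, PermMult.card_closure_eq cov_ok ha hb five_gens_eq five_check,
    five_order, card_K] at h
  norm_num at h

theorem el7_ok : (memC (n := 736) (w := 10) (by decide) cov_chain el7 &&
    Nat.beq (ppow 736 10 el7 7) (pone 736 10) && pNotOne 736 10 el7) = true := by decide +kernel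

theorem exists_seven : ∃ P : Subgroup K, ¬ 7 ∣ P.index ∧ Fusion.KillsPart 7 P :=
  PermMult.exists_cyclic (hw := (by decide : 736 ≤ 2 ^ 10)) (q := 7) (c := el7) cov_ok (by norm_num)
    el7_ok (by rw [card_K]; norm_num)

end Cfsg.Agent.Lib.O8Mult
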