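import Cfsg.Agent.Lib.Schur.PcCollectPerm
import Cfsg.Agent.Lib.O8Mult.Cover
import Cfsg.Agent.Lib.O8Mult.ThreeData

/-!
# The three-part of the multiplier of the cover
-/

set_option autoImplicit false
set_option Elab.async false
set_option maxRecDepth 20000

namespace Cfsg.Agent.Lib.O8Mult

open Cfsg.Agent.Lib.Schur
open Cfsg.Agent.Lib.Schur.PcCollectPerm (gensOk relsOk sepOk conjsOk)

theorem three_cert : three.certOk (PcCollect.listVec 3) threeEqs threeCombos = true := by decide +kernel

theorem three_gens : gensOk (n := 736) (w := 10) (by decide) cov_chain threeGens = true := by decide +kernel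

theorem three_rels : relsOk 736 10 three threeGens = true := by decide +kernel

theorem three_sep : sepOk 736 10 three threeGens threeSep = true := by decide +kernel

theorem three_conjs : conjsOk (n := 736) (w := 10) (by decide) cov_chain three threeGens threeX = true := by
  decide +kernel

theorem exists_three : ∃ P : Subgroup K, ¬ 3 ∣ P.index ∧ Fusion.KillsPart 3 P :=
  PcCollectPerm.exists_part cov_ok three (show Nat.Prime 3 by norm_num) (PcCollect.listVec 3)
    three_cert three_gens three_rels three_sep three_conjs
    (by rw [card_K]; show ¬ 3 ^ 6 ∣ 696729600; norm_num)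

end Cfsg.Agent.Lib.O8Mult
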