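import Cfsg.Agent.Lib.Schur.PcCollectPerm
import Cfsg.Agent.Lib.O8Mult.Cover
import Cfsg.Agent.Lib.O8Mult.TwoData

/-!
# The two-part of the multiplier of the cover
-/

set_option autoImplicit false
set_option Elab.async false
set_option maxRecDepth 20000

namespace Cfsg.Agent.Lib.O8Mult

open Cfsg.Agent.Lib.Schur
open Cfsg.Agent.Lib.Schur.PcCollectPerm (gensOk relsOk sepOk conjsOk)

theorem two_cert : two.certOk (PcCollect.maskVec) twoEqs twoCombos = true := by decide +kernel

theorem two_gens : gensOk (n := 736) (w := 10) (by decide) cov_chain twoGens = true := by decide +kernel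

theorem two_rels : relsOk 736 10 two twoGens = true := by decide +kernel

theorem two_sep : sepOk 736 10 two twoGens twoSep = true := by decide +kernel

theorem two_conjs : conjsOk (n := 736) (w := 10) (by decide) cov_chain two twoGens twoX = true := by
  decide +kernel

theorem exists_two : ∃ P : Subgroup K, ¬ 2 ∣ P.index ∧ Fusion.KillsPart 2 P :=
  PcCollectPerm.exists_part cov_ok two (show Nat.Prime 2 by norm_num) (PcCollect.maskVec)
    two_cert two_gens two_rels two_sep two_conjs
    (by rw [card_K]; show ¬ 2 ^ 15 ∣ 696729600; norm_num)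

end Cfsg.Agent.Lib.O8Mult
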