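import Cfsg.Agent.Lib.Schur.SplitBlock
import Cfsg.Agent.Lib.Schur.Universe
import Cfsg.Agent.Lib.O8Mult.Natural
import Cfsg.Agent.Lib.O8Mult.Two
import Cfsg.Agent.Lib.O8Mult.Three
import Cfsg.Agent.Lib.O8Mult.Odd
import Cfsg.Agent.Lib.O8Mult.CommData

/-!
# The multiplier of `PΩ⁺₈(2)`
-/

set_option autoImplicit false
set_option Elab.async false
set_option maxRecDepth 20000

namespace Cfsg.Agent.Lib.O8Mult

open Cfsg Cfsg.Agent.Lib.Schur
open Cfsg.Agent.Lib.Computation (decodeP permRep mulP)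
open Cfsg.Agent.Lib.Schur.PermMult (pone pNotOne memC el el_has hasOne)
open scoped commutatorElement

theorem multiplier_K : HasCyclicSchurMultiplier K 1 := by
  refine Fusion.hasTrivialMultiplier fun p hp hd => ?_
  rw [card_K, show (696729600 : ℕ) = 2 ^ 14 * 3 ^ 5 * 5 ^ 2 * 7 by norm_num] at hd
  simp only [hp.dvd_mul] at hd
  have one := fun {q : ℕ} (hq : q.Prime) (hd : p ∣ q) => (Nat.prime_dvd_prime_iff_eq hp hq).1 hd
  rcases hd with ((h | h) | h) | h
  · obtain rfl := one Nat.prime_two (hp.dvd_of_dvd_pow h)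
    exact exists_two
  · obtain rfl := one Nat.prime_three (hp.dvd_of_dvd_pow h)
    exact exists_three
  · obtain rfl := one (by norm_num) (hp.dvd_of_dvd_pow h)
    exact exists_five
  · obtain rfl := one (by norm_num) h
    exact exists_seven

theorem blocks_ok : (blocks.all fun t => SplitBlock.blockOk 480 256 10 9 8 t.1 t.2.1 t.2.2) = true := by
  decide +kernel

theorem blocks_gens : blocks.map (fun t => t.1) = cov_gens ∧ blocks.map (fun t => t.2.2) = img_gens := by
  decide +kernel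

theorem exists_proj : ∃ ψ : K →* ↥Om, Function.Surjective ψ ∧
    ∀ (g : K) (c a : ℕ), SplitBlock.blockOk 480 256 10 9 8 c a (pone 256 8) = true →
      (g : Equiv.Perm (Fin 736)) = decodeP 736 10 c → ψ g = 1 := by
  classical
  let S : Set (Equiv.Perm (Fin 736)) := decodeP 736 10 '' {s | s ∈ cov_gens}
  have hK : K = Subgroup.closure S := ((permRep 736 10 (by decide)).closure_eq_grp cov_check).symm
  have hgens : ∀ c ∈ cov_gens, ∃ t ∈ blocks, t.1 = c := fun c hc => by
    rw [← blocks_gens.1] at hc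
    exact List.mem_map.1 hc
  have hblk : ∀ t ∈ blocks, SplitBlock.blockOk 480 256 10 9 8 t.1 t.2.1 t.2.2 = true := fun t ht =>
    List.all_eq_true.1 blocks_ok t ht
  have hle : K ≤ (SplitBlock.blockEmb 480 256).range := by
    rw [hK, Subgroup.closure_le]
    rintro _ ⟨c, hc, rfl⟩
    obtain ⟨t, ht, rfl⟩ := hgens c hc
    exact ⟨_, (SplitBlock.decodeP_block (hblk t ht)).symm⟩
  let π : K →* Equiv.Perm (Fin 256) := (SplitBlock.proj 480 256).comp (Subgroup.inclusion hle)
  have htop : Subgroup.closure (K.subtype ⁻¹' S) = ⊤ := by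
    apply Subgroup.map_injective K.subtype_injective
    rw [MonoidHom.map_closure, ← MonoidHom.range_eq_map, Subgroup.range_subtype]
    conv_rhs => rw [hK]
    congr 1
    refine Set.image_preimage_eq_of_subset ?_
    rw [Subgroup.coe_subtype, Subtype.range_coe]
    intro x hx
    rw [hK]
    exact Subgroup.subset_closure hx
  have hrange : π.range = Om.map phi := by
    rw [MonoidHom.range_eq_map, ← htop, MonoidHom.map_closure, ← closure_img]
    congr 1
    ext y
    constructor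
    · rintro ⟨g, ⟨c, hc, hg⟩, rfl⟩
      obtain ⟨t, ht, rfl⟩ := hgens c hc
      exact ⟨t.2.2, blocks_gens.2 ▸ List.mem_map.2 ⟨t, ht, rfl⟩,
        (SplitBlock.proj_of_block (hblk t ht) _ hg.symm).symm⟩
    · rintro ⟨b, hb, rfl⟩
      rw [Set.mem_ofPred_eq, ← blocks_gens.2] at hb
      obtain ⟨t, ht, rfl⟩ := List.mem_map.1 hb
      have hc : t.1 ∈ cov_gens := blocks_gens.1 ▸ List.mem_map.2 ⟨t, ht, rfl⟩
      refine ⟨⟨decodeP 736 10 t.1, hK ▸ Subgroup.subset_closure ⟨_, hc, rfl⟩⟩, ⟨_, hc, rfl⟩, ?_⟩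
      exact SplitBlock.proj_of_block (hblk t ht) _ rfl
  let e := Om.equivMapOfInjective phi phi_injective
  have hmem : ∀ g, π g ∈ Om.map phi := fun g => hrange ▸ ⟨g, rfl⟩
  let ψ : K →* ↥Om := e.symm.toMonoidHom.comp (π.codRestrict (Om.map phi) hmem)
  refine ⟨ψ, e.symm.surjective.comp fun y => ?_, fun g c a h hg => ?_⟩
  · obtain ⟨g, hg⟩ : (y : Equiv.Perm (Fin 256)) ∈ π.range := by rw [hrange]; exact y.2
    exact ⟨g, Subtype.ext hg⟩
  · have h1 : π g = 1 := by
      rw [show π g = decodeP 256 8 (pone 256 8) from SplitBlock.proj_of_block h _ hg]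
      exact (permRep 256 8 (by decide)).val_one
    exact e.symm.map_eq_one_iff.2 (Subtype.ext h1)

theorem z_ok : (memC (n := 736) (w := 10) (by decide) cov_chain zA &&
    memC (n := 736) (w := 10) (by decide) cov_chain zB &&
    memC (n := 736) (w := 10) (by decide) cov_chain xA &&
    memC (n := 736) (w := 10) (by decide) cov_chain yA &&
    memC (n := 736) (w := 10) (by decide) cov_chain xB &&
    memC (n := 736) (w := 10) (by decide) cov_chain yB &&
    pNotOne 736 10 zA && pNotOne 736 10 zB && pNotOne 736 10 (mulP 736 10 zA zB) &&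
    SplitBlock.blockOk 480 256 10 9 8 zA zABlock (pone 256 8) &&
    SplitBlock.blockOk 480 256 10 9 8 zB zBBlock (pone 256 8) &&
    Nat.beq (mulP 736 10 zA zA) (pone 736 10) && Nat.beq (mulP 736 10 zB zB) (pone 736 10) &&
    Nat.beq (mulP 736 10 zA zB) (mulP 736 10 zB zA) &&
    Nat.beq (mulP 736 10 xA yA) (mulP 736 10 (mulP 736 10 zA yA) xA) &&
    Nat.beq (mulP 736 10 xB yB) (mulP 736 10 (mulP 736 10 zB yB) xB) &&
    cov_gens.all fun c => Computation.okPerm 736 10 c &&
      Nat.beq (mulP 736 10 c zA) (mulP 736 10 zA c) &&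
      Nat.beq (mulP 736 10 c zB) (mulP 736 10 zB c)) = true := by
  decide +kernel

theorem mem_center_of {z : K} {zc : ℕ} (iz : PermMult.Has (by decide) cov_chain z zc)
    (hz : ∀ c ∈ cov_gens, Computation.okPerm 736 10 c = true ∧
      Nat.beq (mulP 736 10 c zc) (mulP 736 10 zc c) = true) : z ∈ Subgroup.center K := by
  rw [Subgroup.mem_center_iff]
  intro g
  have hle : K ≤ Subgroup.centralizer {(z : Equiv.Perm (Fin 736))} := by
    refine ((permRep 736 10 (by decide)).closure_eq_grp cov_check).ge.trans ?_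
    rw [Subgroup.closure_le]
    rintro _ ⟨c, hc, rfl⟩
    obtain ⟨hok, hcz⟩ := hz c hc
    rw [SetLike.mem_coe, Subgroup.mem_centralizer_singleton_iff, iz.2,
      ← Computation.decodeP_mulP hok iz.1, ← Computation.decodeP_mulP iz.1 hok,
      Nat.eq_of_beq_eq_true hcz]
  exact Subtype.ext (Subgroup.mem_centralizer_singleton_iff.1 (hle g.2))

theorem over_zmod : HasSchurMultiplier (Cfsg.POmega (ZMod 2) qf) (Multiplicative (ZMod 2 × ZMod 2)) := by
  obtain ⟨ψ, hψ, hψb⟩ := exists_proj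
  let σ : K →* Cfsg.POmega (ZMod 2) qf := (QuotientGroup.mk' _).comp ψ
  have hσ : Function.Surjective σ := mk_bijective.2.comp hψ
  have h := z_ok
  simp only [Bool.and_eq_true, List.all_eq_true] at h
  obtain ⟨⟨⟨⟨⟨⟨⟨⟨⟨⟨⟨⟨⟨⟨⟨⟨hzA, hzB⟩, hxA⟩, hyA⟩, hxB⟩, hyB⟩, hA1⟩, hB1⟩, hAB1⟩, hAb⟩, hBb⟩, hAA⟩, hBB⟩,
    hABc⟩, hcA⟩, hcB⟩, hcen⟩ := h
  have iA := el_has cov_ok hzA
  have iB := el_has cov_ok hzB
  have ixA := el_has cov_ok hxA
  have iyA := el_has cov_ok hyA
  have ixB := el_has cov_ok hxB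
  have iyB := el_has cov_ok hyB
  set a := el cov_ok hzA
  set b := el cov_ok hzB
  have haσ : σ a = 1 := by
    show QuotientGroup.mk' _ (ψ a) = 1
    rw [hψb a _ _ hAb iA.2, map_one]
  have hbσ : σ b = 1 := by
    show QuotientGroup.mk' _ (ψ b) = 1
    rw [hψb b _ _ hBb iB.2, map_one]
  have hcard : Nat.card σ.ker = 4 := by
    have h1 := σ.ker.card_mul_index
    rw [Subgroup.index_ker, MonoidHom.range_eq_top.2 hσ, Subgroup.card_top, card_POm, card_K] at h1
    omega
  have ha1 : a ≠ 1 := iA.ne_one hA1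
  have hb1 : b ≠ 1 := iB.ne_one hB1
  have hab1 : a * b ≠ 1 := (iA.mul iB).ne_one hAB1
  have haa : a * a = 1 := (iA.mul iA).eq hasOne hAA
  have hbb : b * b = 1 := (iB.mul iB).eq hasOne hBB
  have hab : a * b = b * a := (iA.mul iB).eq (iB.mul iA) hABc
  have hne : a ≠ b := fun e => hab1 (by rw [← e]; exact haa)
  have hker : (σ.ker : Set K) = {1, a, b, a * b} := by
    refine (Set.eq_of_subset_of_ncard_le ?_ ?_ (Set.toFinite _)).symm
    · rintro x (rfl | rfl | rfl | rfl)
      · exact σ.ker.one_mem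
      · exact haσ
      · exact hbσ
      · show σ (a * b) = 1
        rw [map_mul, haσ, hbσ, one_mul]
    · rw [show (σ.ker : Set K).ncard = Nat.card σ.ker from (Nat.card_coe_set_eq _).symm, hcard,
        Set.ncard_insert_of_notMem (by simp [ha1.symm, hb1.symm, hab1.symm]),
        Set.ncard_insert_of_notMem (by simp [hne, hb1]),
        Set.ncard_insert_of_notMem (by simp [ha1]), Set.ncard_singleton]
  have hca : a ∈ Subgroup.center K := mem_center_of iA fun c hc => ⟨(hcen c hc).1.1, (hcen c hc).1.2⟩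
  have hcb : b ∈ Subgroup.center K := mem_center_of iB fun c hc => ⟨(hcen c hc).1.1, (hcen c hc).2⟩
  have hda : a ∈ commutator K := by
    have he : ⁅el cov_ok hxA, el cov_ok hyA⁆ = a := by
      rw [commutatorElement_def, mul_inv_eq_iff_eq_mul, mul_inv_eq_iff_eq_mul]
      exact (ixA.mul iyA).eq ((iA.mul iyA).mul ixA) hcA
    rw [← he]
    exact Subgroup.commutator_mem_commutator (Subgroup.mem_top _) (Subgroup.mem_top _)
  have hdb : b ∈ commutator K := by
    have he : ⁅el cov_ok hxB, el cov_ok hyB⁆ = b := by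
      rw [commutatorElement_def, mul_inv_eq_iff_eq_mul, mul_inv_eq_iff_eq_mul]
      exact (ixB.mul iyB).eq ((iB.mul iyB).mul ixB) hcB
    rw [← he]
    exact Subgroup.commutator_mem_commutator (Subgroup.mem_top _) (Subgroup.mem_top _)
  have hsub : ∀ {H : Subgroup K}, a ∈ H → b ∈ H → σ.ker ≤ H := by
    intro H ha hb x hx
    have hx' : x ∈ ({1, a, b, a * b} : Set K) := hker ▸ hx
    rcases hx' with rfl | rfl | rfl | rfl
    · exact H.one_mem
    · exact ha
    · exact hb
    · exact H.mul_mem ha hb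
  have hsq : ∀ x ∈ σ.ker, x * x = 1 := by
    intro x hx
    have hx' : x ∈ ({1, a, b, a * b} : Set K) := hker ▸ hx
    rcases hx' with rfl | rfl | rfl | rfl
    · exact one_mul 1
    · exact haa
    · exact hbb
    · rw [← mul_assoc, mul_assoc a b a, ← hab, ← mul_assoc, haa, one_mul, hbb]
  have : IsKleinFour σ.ker := ⟨hcard, by
    have : Nontrivial σ.ker := ⟨⟨⟨a, haσ⟩, 1, fun e => ha1 (congrArg Subtype.val e)⟩⟩
    exact (Nat.prime_two.eq_one_or_self_of_dvd _ (Monoid.exponent_dvd_of_forall_pow_eq_one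
      fun x => Subtype.ext (by rw [SubgroupClass.coe_pow, pow_two]; exact hsq _ x.2))).resolve_left
        (fun e => ha1 (congrArg Subtype.val ((Monoid.exp_eq_one_iff.1 e).elim (⟨a, haσ⟩ : σ.ker) 1)))⟩
  obtain ⟨e⟩ : Nonempty (σ.ker ≃* Multiplicative (ZMod 2 × ZMod 2)) := IsKleinFour.nonempty_mulEquiv
  exact PermMult.hasSchurMultiplier_of_cover σ ⟨hσ, hsub hca hcb, hsub hda hdb⟩ multiplier_K e

end Cfsg.Agent.Lib.O8Mult
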